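import Groth.Agent.L18.SymGraded
import Mathlib.AlgebraicGeometry.Pullbacks
import Mathlib.Algebra.Category.Ring.Constructions

/-!
# The symmetric algebra of a direct sum is the coproduct of the symmetric algebras
-/

set_option autoImplicit false
set_option backward.isDefEq.respectTransparency false
universe u

open CategoryTheory CategoryTheory.Limits AlgebraicGeometry Opposite TopologicalSpace

noncomputable section

namespace Groth.L16.SymBiprod

open Groth.L18.SymSheaf (Sym exists_equiv smul_toModule)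

variable {S : Scheme.{u}} {E F : S.Modules}
  {AE AF A : RelSpec.QCAlg S} {jE : E ⟶ AE.toModule} {jF : F ⟶ AF.toModule} {j : E ⊞ F ⟶ A.toModule}

theorem biprod_app_total (U : S.Opens) (m : Γ((E ⊞ F : S.Modules), U)) :
    (biprod.inl : E ⟶ E ⊞ F).app U ((biprod.fst : E ⊞ F ⟶ E).app U m) +
      (biprod.inr : F ⟶ E ⊞ F).app U ((biprod.snd : E ⊞ F ⟶ F).app U m) = m :=
  congrArg (fun g : E ⊞ F ⟶ E ⊞ F => g.app U m) biprod.total

theorem isPushout [Coh.IsQCoh E] [Coh.IsQCoh F] [Coh.IsQCoh (E ⊞ F)]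
    (hAE : RelSpec.IsSymAlg E AE jE) (hAF : RelSpec.IsSymAlg F AF jF) (hA : RelSpec.IsSymAlg (E ⊞ F) A j)
    (ψE : AE ⟶ A) (ψF : AF ⟶ A)
    (hψE : jE ≫ RelSpec.QCAlg.Hom.toModuleMap ψE = biprod.inl ≫ j)
    (hψF : jF ≫ RelSpec.QCAlg.Hom.toModuleMap ψF = biprod.inr ≫ j)
    {U : S.Opens} (hU : IsAffineOpen U) :
    IsPushout (AE.str.app (op U)) (AF.str.app (op U)) (ψE.hom.app (op U)) (ψF.hom.app (op U)) := by
  obtain ⟨ΦE, hE0, hE1, -⟩ := exists_equiv hAE
  obtain ⟨ΦF, hF0, hF1, -⟩ := exists_equiv hAF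
  obtain ⟨Φ, h0, h1, -⟩ := exists_equiv hA
  have cE : ∀ r, (ψE.hom.app (op U)).hom ((AE.str.app (op U)).hom r) = (A.str.app (op U)).hom r := fun r =>
    ConcreteCategory.congr_hom (NatTrans.congr_app ψE.comm (op U)) r
  have cF : ∀ r, (ψF.hom.app (op U)).hom ((AF.str.app (op U)).hom r) = (A.str.app (op U)).hom r := fun r =>
    ConcreteCategory.congr_hom (NatTrans.congr_app ψF.comm (op U)) r
  have gE : ∀ e : Γ(E, U), (ψE.hom.app (op U)).hom (jE.app U e) = j.app U ((biprod.inl : E ⟶ E ⊞ F).app U e) :=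
    fun e => congrArg (fun g : E ⟶ A.toModule => g.app U e) hψE
  have gF : ∀ e : Γ(F, U), (ψF.hom.app (op U)).hom (jF.app U e) = j.app U ((biprod.inr : F ⟶ E ⊞ F).app U e) :=
    fun e => congrArg (fun g : F ⟶ A.toModule => g.app U e) hψF
  have hsq : AE.str.app (op U) ≫ ψE.hom.app (op U) = AF.str.app (op U) ≫ ψF.hom.app (op U) :=
    CommRingCat.hom_ext (RingHom.ext fun r => (cE r).trans (cF r).symm)
  have key : ∀ (T : CommRingCat.{u}) (α : AE.presheaf.obj (op U) →+* T) (β : AF.presheaf.obj (op U) →+* T),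
      (∀ r, α ((AE.str.app (op U)).hom r) = β ((AF.str.app (op U)).hom r)) →
      ∃ γ : A.presheaf.obj (op U) →+* T,
        γ.comp (ψE.hom.app (op U)).hom = α ∧ γ.comp (ψF.hom.app (op U)).hom = β := by
    intro T α β hαβ
    letI : Algebra Γ(S, U) T := (α.comp (AE.str.app (op U)).hom).toAlgebra
    let a : Γ(E, U) → T := fun e => α (jE.app U e)
    let b : Γ(F, U) → T := fun e => β (jF.app U e)
    have ha : ∀ (r : Γ(S, U)) e, a (r • e) = α ((AE.str.app (op U)).hom r) * a e := fun r e => by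
      show α (jE.app U (r • e)) = _
      rw [Scheme.Modules.Hom.app_smul, smul_toModule]
      exact map_mul α _ _
    have hb : ∀ (r : Γ(S, U)) e, b (r • e) = β ((AF.str.app (op U)).hom r) * b e := fun r e => by
      show β (jF.app U (r • e)) = _
      rw [Scheme.Modules.Hom.app_smul, smul_toModule]
      exact map_mul β _ _
    have ha0 : ∀ x y, a (x + y) = a x + a y := fun x y => by
      show α (jE.app U (x + y)) = _
      rw [map_add]
      exact map_add α _ _
    have hb0 : ∀ x y, b (x + y) = b x + b y := fun x y => by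
      show β (jF.app U (x + y)) = _
      rw [map_add]
      exact map_add β _ _
    let l : Γ((E ⊞ F : S.Modules), U) →ₗ[Γ(S, U)] T :=
      { toFun := fun m => a ((biprod.fst : E ⊞ F ⟶ E).app U m) + b ((biprod.snd : E ⊞ F ⟶ F).app U m)
        map_add' := fun x y => by
          rw [map_add, map_add, ha0, hb0]
          abel
        map_smul' := fun r m => by
          rw [Scheme.Modules.Hom.app_smul, Scheme.Modules.Hom.app_smul, ha, hb, ← hαβ, ← mul_add]
          rfl }
    let γ0 : A.presheaf.obj (op U) →+* T := (SymmetricAlgebra.lift l).toRingHom.comp (Φ U hU).symm.toRingHom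
    refine ⟨γ0, ?_, ?_⟩
    · suffices h : RingHom.comp (RingHom.comp γ0 (ψE.hom.app (op U)).hom) (ΦE U hU).toRingHom =
          α.comp (ΦE U hU).toRingHom from RingHom.ext fun x => by
        obtain ⟨y, rfl⟩ := (ΦE U hU).surjective x
        exact RingHom.congr_fun h y
      refine Groth.L18.SymRing.ringHom_ext (fun r => ?_) (fun e => ?_)
      · show SymmetricAlgebra.lift l ((Φ U hU).symm ((ψE.hom.app (op U)).hom (ΦE U hU (algebraMap _ _ r)))) =
          α (ΦE U hU (algebraMap _ _ r))
        rw [hE0, cE, ← h0 U hU, RingEquiv.symm_apply_apply, AlgHom.commutes]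
        rfl
      · show SymmetricAlgebra.lift l ((Φ U hU).symm ((ψE.hom.app (op U)).hom (ΦE U hU (SymmetricAlgebra.ι _ _ e)))) =
          α (ΦE U hU (SymmetricAlgebra.ι _ _ e))
        rw [hE1, gE, ← h1 U hU, RingEquiv.symm_apply_apply, SymmetricAlgebra.lift_ι_apply]
        show a _ + b _ = a e
        rw [show (biprod.fst : E ⊞ F ⟶ E).app U ((biprod.inl : E ⟶ E ⊞ F).app U e) = e from
          congrArg (fun g : E ⟶ E => g.app U e) biprod.inl_fst,
          show (biprod.snd : E ⊞ F ⟶ F).app U ((biprod.inl : E ⟶ E ⊞ F).app U e) = 0 from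
          congrArg (fun g : E ⟶ F => g.app U e) biprod.inl_snd,
          show b 0 = 0 by show β (jF.app U 0) = 0; rw [map_zero]; exact map_zero β, add_zero]
    · suffices h : RingHom.comp (RingHom.comp γ0 (ψF.hom.app (op U)).hom) (ΦF U hU).toRingHom =
          β.comp (ΦF U hU).toRingHom from RingHom.ext fun x => by
        obtain ⟨y, rfl⟩ := (ΦF U hU).surjective x
        exact RingHom.congr_fun h y
      refine Groth.L18.SymRing.ringHom_ext (fun r => ?_) (fun e => ?_)
      · show SymmetricAlgebra.lift l ((Φ U hU).symm ((ψF.hom.app (op U)).hom (ΦF U hU (algebraMap _ _ r)))) =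
          β (ΦF U hU (algebraMap _ _ r))
        rw [hF0, cF, ← h0 U hU, RingEquiv.symm_apply_apply, AlgHom.commutes]
        exact hαβ r
      · show SymmetricAlgebra.lift l ((Φ U hU).symm ((ψF.hom.app (op U)).hom (ΦF U hU (SymmetricAlgebra.ι _ _ e)))) =
          β (ΦF U hU (SymmetricAlgebra.ι _ _ e))
        rw [hF1, gF, ← h1 U hU, RingEquiv.symm_apply_apply, SymmetricAlgebra.lift_ι_apply]
        show a _ + b _ = b e
        rw [show (biprod.snd : E ⊞ F ⟶ F).app U ((biprod.inr : F ⟶ E ⊞ F).app U e) = e from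
          congrArg (fun g : F ⟶ F => g.app U e) biprod.inr_snd,
          show (biprod.fst : E ⊞ F ⟶ E).app U ((biprod.inr : F ⟶ E ⊞ F).app U e) = 0 from
          congrArg (fun g : F ⟶ E => g.app U e) biprod.inr_fst,
          show a 0 = 0 by show α (jE.app U 0) = 0; rw [map_zero]; exact map_zero α, zero_add]
  have uniq : ∀ (T : CommRingCat.{u}) (γ γ' : A.presheaf.obj (op U) →+* T),
      γ.comp (ψE.hom.app (op U)).hom = γ'.comp (ψE.hom.app (op U)).hom →
      γ.comp (ψF.hom.app (op U)).hom = γ'.comp (ψF.hom.app (op U)).hom → γ = γ' := by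
    intro T γ γ' eE eF
    suffices h : γ.comp (Φ U hU).toRingHom = γ'.comp (Φ U hU).toRingHom from RingHom.ext fun x => by
      obtain ⟨y, rfl⟩ := (Φ U hU).surjective x
      exact RingHom.congr_fun h y
    refine Groth.L18.SymRing.ringHom_ext (fun r => ?_) (fun m => ?_)
    · show γ (Φ U hU _) = γ' (Φ U hU _)
      rw [h0, ← cE]
      exact RingHom.congr_fun eE _
    · show γ (Φ U hU _) = γ' (Φ U hU _)
      rw [h1, ← biprod_app_total U m, map_add, ← gE, ← gF]
      exact (map_add γ _ _).trans ((congrArg₂ (· + ·) (RingHom.congr_fun eE _) (RingHom.congr_fun eF _)).trans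
        (map_add γ' _ _).symm)
  choose γ hγE hγF using key
  refine ⟨⟨hsq⟩, ⟨PushoutCocone.IsColimit.mk hsq
    (fun s => CommRingCat.ofHom (γ s.pt s.inl.hom s.inr.hom
      (fun r => ConcreteCategory.congr_hom s.condition r)))
    (fun s => CommRingCat.hom_ext (hγE _ _ _ _))
    (fun s => CommRingCat.hom_ext (hγF _ _ _ _))
    (fun s m h₁ h₂ => CommRingCat.hom_ext (uniq _ _ _ ?_ ?_))⟩⟩
  · rw [CommRingCat.hom_ofHom, hγE, ← h₁]; rfl
  · rw [CommRingCat.hom_ofHom, hγF, ← h₂]; rfl

end Groth.L16.SymBiprod
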